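import Groth.Agent.Sga3C.QuotGlue
import Groth.Agent.S1128
import Mathlib.AlgebraicGeometry.Morphisms.UniversallyOpen

/-!
# Factorisation of a morphism as an fppf cover followed by a monomorphism

`HasFact f`: the morphism of schemes `f : X ⟶ Y` is the composite of a surjective flat morphism
locally of finite presentation and of a monomorphism.

* `HasFact.of_slice`: passing from a quasi-section `g : T ⟶ X` to `X`;
* `HasFact.of_cover`: `HasFact` is Zariski local on the source (when `X ×_Y X ⟶ X` is flat);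
* `HasFact.of_slices`: the combination of the two;
* `exists_iso`: uniqueness of the factorisation;
* `flat_fst_of_hasFact`: the first projection of `X ×_Y X` is then flat.
-/

set_option autoImplicit false

universe u

open CategoryTheory Limits AlgebraicGeometry

namespace Groth.Agent.GrpQ.H773.HasFact

open Groth.Agent.Sga3C.QuotRel

variable {X Y : Scheme.{u}}

/-- The morphism `f` factors as a surjective flat morphism locally of finite presentation followed
by a monomorphism. -/
def HasFact (f : X ⟶ Y) : Prop :=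
  ∃ (Z : Scheme.{u}) (g : X ⟶ Z) (h : Z ⟶ Y), Surjective g ∧ Flat g ∧
    LocallyOfFinitePresentation g ∧ Mono h ∧ g ≫ h = f

theorem rel_iff (f : X ⟶ Y) {T : Scheme.{u}} (a b : T ⟶ X) :
    Rel (pullback.fst f f) (pullback.snd f f) a b ↔ a ≫ f = b ≫ f := by
  constructor
  · rintro ⟨r, rfl, rfl⟩
    rw [Category.assoc, Category.assoc, pullback.condition]
  · intro h
    exact ⟨pullback.lift a b h, pullback.lift_fst _ _ _, pullback.lift_snd _ _ _⟩

theorem isERel (f : X ⟶ Y) : IsERel (pullback.fst f f) (pullback.snd f f) where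
  mono _ _ h1 h2 := pullback.hom_ext h1 h2
  refl a := (rel_iff f a a).2 rfl
  symm h := (rel_iff f _ _).2 ((rel_iff f _ _).1 h).symm
  trans h1 h2 := (rel_iff f _ _).2 (((rel_iff f _ _).1 h1).trans ((rel_iff f _ _).1 h2))

/-- An fppf quotient by the kernel pair of `f` gives a factorisation of `f`. -/
theorem hasFact_of_isQuot (f : X ⟶ Y) {Q : Scheme.{u}} (q : X ⟶ Q)
    (hq : IsQuot (pullback.fst f f) (pullback.snd f f) q) : HasFact f := by
  have := hq.flat
  have := hq.surj
  have := hq.lfp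
  obtain ⟨h, hh⟩ := hq.exists_desc f pullback.condition
  refine ⟨Q, q, h, hq.surj, hq.flat, hq.lfp, ⟨fun {T} a b hab => ?_⟩, hh⟩
  have : Epi (pullback.fst a q) := Flat.epi_of_flat_of_surjective _
  have : Epi (pullback.fst (pullback.fst a q ≫ b) q) := Flat.epi_of_flat_of_surjective _
  rw [← cancel_epi (pullback.fst a q), ← cancel_epi (pullback.fst (pullback.fst a q ≫ b) q)]
  have h1 : (pullback.fst (pullback.fst a q ≫ b) q ≫ pullback.snd a q) ≫ q =
      pullback.snd (pullback.fst a q ≫ b) q ≫ q := by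
    rw [hq.rel_iff, rel_iff, ← hh, ← pullback.condition_assoc, Category.assoc,
      ← pullback.condition_assoc, hab, Category.assoc]
  rw [Category.assoc, ← pullback.condition] at h1
  rw [h1, ← pullback.condition]

/-- Factorisations of the restriction to an open subset are quotients of it. -/
theorem hasQuot_of_hasFact (f : X ⟶ Y) (V : X.Opens) (h : HasFact (V.ι ≫ f)) :
    HasQuot (pullback.fst f f) (pullback.snd f f) V := by
  obtain ⟨Z, g, i, h1, h2, h3, h4, h5⟩ := h
  refine ⟨Z, g, h2, h1, h3, fun {T} a b => ?_⟩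
  rw [rel_iff, Category.assoc, Category.assoc, ← h5, ← Category.assoc, ← Category.assoc,
    cancel_mono i]

/-- Passing from a quasi-section to the whole scheme. -/
theorem HasFact.of_slice (f : X ⟶ Y) [LocallyOfFinitePresentation f] [Flat (pullback.fst f f)]
    {T : Scheme.{u}} (g : T ⟶ X) [Flat (pullback.snd (g ≫ f) f)]
    [LocallyOfFinitePresentation (pullback.snd (g ≫ f) f)]
    [Surjective (pullback.snd (g ≫ f) f)] (h : HasFact (g ≫ f)) : HasFact f := by
  obtain ⟨Z, p, i, hp1, hp2, hp3, hi, hpi⟩ := h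
  let π : pullback (g ≫ f) f ⟶ X := pullback.snd _ _
  have : Epi π := Flat.epi_of_flat_of_surjective π
  obtain ⟨q, hq⟩ := exists_desc π (pullback.fst (g ≫ f) f ≫ p) fun {S} a b hab => by
    rw [← cancel_mono i]
    simp only [Category.assoc, hpi]
    rw [pullback.condition]
    exact by
      change a ≫ π ≫ f = b ≫ π ≫ f
      rw [reassoc_of% hab]
  have hqi : q ≫ i = f := by
    rw [← cancel_epi π, reassoc_of% hq, hpi]
    exact pullback.condition
  have hsq : IsPullback (pullback.fst (g ≫ f) f) π p q :=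
    ⟨⟨hq.symm⟩, ⟨PullbackCone.IsLimit.mk _
      (fun c => pullback.lift c.fst c.snd (by
        rw [← hpi, ← hqi, c.condition_assoc]))
      (fun c => pullback.lift_fst _ _ _) (fun c => pullback.lift_snd _ _ _)
      (fun c m h1 h2 => pullback.hom_ext (h1.trans (pullback.lift_fst _ _ _).symm)
        (h2.trans (pullback.lift_snd _ _ _).symm))⟩⟩
  -- the first projection `T ×_Y X ⟶ T` is a base change of `X ×_Y X ⟶ X`
  have hb : IsPullback (pullback.fst (g ≫ f) f) (pullback.lift (pullback.fst (g ≫ f) f ≫ g)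
      (pullback.snd (g ≫ f) f) (by rw [Category.assoc, pullback.condition])) g
      (pullback.fst f f) := by
    refine ⟨⟨(pullback.lift_fst _ _ _).symm⟩, ⟨PullbackCone.IsLimit.mk _
      (fun c => pullback.lift c.fst (c.snd ≫ pullback.snd f f) (by
        rw [Category.assoc, ← pullback.condition, reassoc_of% c.condition]))
      (fun c => pullback.lift_fst _ _ _) (fun c => ?_)
      (fun c m h1 h2 => ?_)⟩⟩
    · apply pullback.hom_ext
      · rw [Category.assoc, pullback.lift_fst, pullback.lift_fst_assoc, c.condition]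
      · rw [Category.assoc, pullback.lift_snd, pullback.lift_snd]
    · apply pullback.hom_ext
      · exact h1.trans (pullback.lift_fst _ _ _).symm
      · have := congrArg (· ≫ pullback.snd f f) h2
        simp only [Category.assoc] at this
        rw [pullback.lift_snd] at this
        exact this.trans (pullback.lift_snd _ _ _).symm
  have h1 : Flat (pullback.fst (g ≫ f) f) :=
    MorphismProperty.of_isPullback (P := @Flat) hb.flip inferInstance
  have h2 : LocallyOfFinitePresentation (pullback.fst (g ≫ f) f) :=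
    MorphismProperty.of_isPullback (P := @LocallyOfFinitePresentation) hb.flip inferInstance
  have h3 : Surjective (pullback.fst (g ≫ f) f) := by
    have : pullback.lift (𝟙 T) g (by simp) ≫ pullback.fst (g ≫ f) f = 𝟙 T :=
      pullback.lift_fst _ _ _
    have h : Surjective (pullback.lift (𝟙 T) g (by simp) ≫ pullback.fst (g ≫ f) f) := by
      rw [this]; infer_instance
    exact Surjective.of_comp (pullback.lift (𝟙 T) g _) (pullback.fst (g ≫ f) f)
  have hq2 : Flat q := by
    have : Flat (π ≫ q) := by rw [hq]; infer_instance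
    exact Groth.Agent.S1128.result π q
  have hq3 : LocallyOfFinitePresentation q :=
    MorphismProperty.of_isPullback_of_descendsAlong (P := @LocallyOfFinitePresentation)
      (Q := @Surjective ⊓ @Flat ⊓ @LocallyOfFinitePresentation) hsq
      ⟨⟨hp1, hp2⟩, hp3⟩ h2
  have hq1 : Surjective q := by
    have : Surjective (π ≫ q) := by rw [hq]; infer_instance
    exact Surjective.of_comp π q
  exact ⟨Z, q, i, hq1, hq2, hq3, hi, hqi⟩

/-- Flatness of the first projection of the kernel pair passes to open subschemes of the source. -/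
theorem flat_fst_of_isOpenImmersion (f : X ⟶ Y) [Flat (pullback.fst f f)] {U V : Scheme.{u}}
    (a : U ⟶ X) (b : V ⟶ X) [IsOpenImmersion a] [IsOpenImmersion b] :
    Flat (pullback.fst (a ≫ f) (b ≫ f)) := by
  let m : pullback (a ≫ f) (b ≫ f) ⟶ pullback f f :=
    pullback.map _ _ _ _ a b (𝟙 Y) (by simp) (by simp)
  have h1 : Flat (pullback.fst (a ≫ f) (b ≫ f) ≫ a) := by
    have : pullback.fst (a ≫ f) (b ≫ f) ≫ a = m ≫ pullback.fst f f :=
      (pullback.lift_fst _ _ _).symm
    rw [this]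
    infer_instance
  exact MorphismProperty.of_postcomp (W := @Flat) (W' := @IsOpenImmersion) _ a inferInstance h1

theorem flat_snd (f : X ⟶ Y) [Flat (pullback.fst f f)] : Flat (pullback.snd f f) := by
  rw [← pullbackSymmetry_hom_comp_fst]
  infer_instance

theorem flat_snd_of_isOpenImmersion (f : X ⟶ Y) [Flat (pullback.fst f f)] {U V : Scheme.{u}}
    (a : U ⟶ X) (b : V ⟶ X) [IsOpenImmersion a] [IsOpenImmersion b] :
    Flat (pullback.snd (a ≫ f) (b ≫ f)) := by
  have := flat_fst_of_isOpenImmersion f b a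
  rw [← pullbackSymmetry_hom_comp_fst]
  infer_instance

/-- The saturation of an open subset. -/
noncomputable def sat (f : X ⟶ Y) [LocallyOfFinitePresentation f] [Flat (pullback.fst f f)]
    (U : X.Opens) : X.Opens :=
  ⟨pullback.snd f f '' (pullback.fst f f ⁻¹' (U : Set X)),
    have := flat_snd f
    (pullback.snd f f).isOpenMap _ (U.2.preimage (pullback.fst f f).continuous)⟩

theorem mem_sat (f : X ⟶ Y) [LocallyOfFinitePresentation f] [Flat (pullback.fst f f)]
    (U : X.Opens) (x : X) : x ∈ sat f U ↔ ∃ u ∈ U, f u = f x := by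
  constructor
  · rintro ⟨r, hr, rfl⟩
    refine ⟨pullback.fst f f r, hr, ?_⟩
    rw [← Scheme.Hom.comp_apply, ← Scheme.Hom.comp_apply, pullback.condition]
  · rintro ⟨u, hu, h⟩
    obtain ⟨r, h1, h2⟩ := Scheme.Pullback.exists_preimage_pullback u x h
    refine ⟨r, ?_, h2⟩
    change pullback.fst f f r ∈ U
    rwa [h1]

theorem le_sat (f : X ⟶ Y) [LocallyOfFinitePresentation f] [Flat (pullback.fst f f)]
    (U : X.Opens) : U ≤ sat f U := fun x hx => (mem_sat f U x).2 ⟨x, hx, rfl⟩

theorem sat_sat (f : X ⟶ Y) [LocallyOfFinitePresentation f] [Flat (pullback.fst f f)]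
    (U : X.Opens) : Sat (pullback.fst f f) (pullback.snd f f) (sat f U) := by
  intro r
  rw [mem_sat, mem_sat, ← Scheme.Hom.comp_apply, ← Scheme.Hom.comp_apply, pullback.condition]

/-- A factorisation over an open subset gives one over its saturation. -/
theorem hasFact_sat (f : X ⟶ Y) [LocallyOfFinitePresentation f] [Flat (pullback.fst f f)]
    (U : X.Opens) (h : HasFact (U.ι ≫ f)) : HasFact ((sat f U).ι ≫ f) := by
  have h0 : Flat (pullback.fst ((sat f U).ι ≫ f) ((sat f U).ι ≫ f)) :=
    flat_fst_of_isOpenImmersion f _ _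
  have hg : X.homOfLE (le_sat f U) ≫ (sat f U).ι ≫ f = U.ι ≫ f := by simp
  have h1 : Flat (pullback.snd (X.homOfLE (le_sat f U) ≫ (sat f U).ι ≫ f) ((sat f U).ι ≫ f)) := by
    rw [hg]
    exact flat_snd_of_isOpenImmersion f _ _
  have h2 : LocallyOfFinitePresentation
      (pullback.snd (X.homOfLE (le_sat f U) ≫ (sat f U).ι ≫ f) ((sat f U).ι ≫ f)) := by
    infer_instance
  have h3 : Surjective
      (pullback.snd (X.homOfLE (le_sat f U) ≫ (sat f U).ι ≫ f) ((sat f U).ι ≫ f)) := by
    refine ⟨fun x => ?_⟩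
    obtain ⟨u, hu, hux⟩ := (mem_sat f U x.1).1 x.2
    obtain ⟨r, -, h2⟩ := Scheme.Pullback.exists_preimage_pullback
      (f := X.homOfLE (le_sat f U) ≫ (sat f U).ι ≫ f) (g := (sat f U).ι ≫ f) ⟨u, hu⟩ x
      (by
        rw [hg]
        exact hux)
    exact ⟨r, h2⟩
  exact HasFact.of_slice ((sat f U).ι ≫ f) (X.homOfLE (le_sat f U)) (by rwa [hg])

/-- `HasFact` is Zariski local on the source. -/
theorem HasFact.of_cover (f : X ⟶ Y) [LocallyOfFinitePresentation f] [Flat (pullback.fst f f)]
    (H : ∀ x : X, ∃ U : X.Opens, x ∈ U ∧ HasFact (U.ι ≫ f)) : HasFact f := by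
  obtain ⟨Q, q, hq⟩ := Groth.Agent.Sga3C.QuotGlue.exists_isQuot (isERel f) fun x => by
    obtain ⟨U, hx, hU⟩ := H x
    exact ⟨sat f U, le_sat f U hx, sat_sat f U, hasQuot_of_hasFact f _ (hasFact_sat f U hU)⟩
  exact hasFact_of_isQuot f q hq

/-- If `f` is a fppf cover followed by a monomorphism, the first projection of its kernel pair is
flat. -/
theorem flat_fst_of_hasFact (f : X ⟶ Y) (h : HasFact f) : Flat (pullback.fst f f) := by
  obtain ⟨Z, g, i, h1, h2, h3, h4, rfl⟩ := h
  have : IsPullback (pullback.fst (g ≫ i) (g ≫ i)) (pullback.snd (g ≫ i) (g ≫ i)) g g := by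
    refine ⟨⟨?_⟩, ⟨PullbackCone.IsLimit.mk _
      (fun c => pullback.lift c.fst c.snd (by rw [c.condition_assoc]))
      (fun c => pullback.lift_fst _ _ _) (fun c => pullback.lift_snd _ _ _)
      (fun c m h1 h2 => pullback.hom_ext (h1.trans (pullback.lift_fst _ _ _).symm)
        (h2.trans (pullback.lift_snd _ _ _).symm))⟩⟩
    rw [← cancel_mono i, Category.assoc, Category.assoc]
    exact pullback.condition
  exact MorphismProperty.of_isPullback (P := @Flat) this.flip inferInstance

/-- Uniqueness of the factorisation. -/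
theorem exists_iso {X Y X₁ X₂ : Scheme.{u}} (g₁ : X ⟶ X₁) (h₁ : X₁ ⟶ Y) (g₂ : X ⟶ X₂)
    (h₂ : X₂ ⟶ Y) [Surjective g₁] [Flat g₁] [LocallyOfFinitePresentation g₁] [Mono h₁]
    [Surjective g₂] [Flat g₂] [LocallyOfFinitePresentation g₂] [Mono h₂]
    (h : g₁ ≫ h₁ = g₂ ≫ h₂) : ∃ φ : X₁ ≅ X₂, g₁ ≫ φ.hom = g₂ ∧ φ.hom ≫ h₂ = h₁ := by
  obtain ⟨a, ha⟩ := exists_desc g₁ g₂ fun {T} x y hxy => by
    rw [← cancel_mono h₂, Category.assoc, Category.assoc, ← h, reassoc_of% hxy]
  obtain ⟨b, hb⟩ := exists_desc g₂ g₁ fun {T} x y hxy => by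
    rw [← cancel_mono h₁, Category.assoc, Category.assoc, h, reassoc_of% hxy]
  have e₁ : Epi g₁ := Flat.epi_of_flat_of_surjective g₁
  have e₂ : Epi g₂ := Flat.epi_of_flat_of_surjective g₂
  refine ⟨⟨a, b, ?_, ?_⟩, ha, ?_⟩
  · rw [← cancel_epi g₁, reassoc_of% ha, hb, Category.comp_id]
  · rw [← cancel_epi g₂, reassoc_of% hb, ha, Category.comp_id]
  · rw [← cancel_epi g₁, reassoc_of% ha, h]

theorem HasFact.comp_mono {Z : Scheme.{u}} {f : X ⟶ Y} (h : HasFact f) (i : Y ⟶ Z) [Mono i] :
    HasFact (f ≫ i) := by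
  obtain ⟨W, g, j, h1, h2, h3, h4, rfl⟩ := h
  exact ⟨W, g, j ≫ i, h1, h2, h3, inferInstance, by rw [Category.assoc]⟩

theorem HasFact.of_iso {X' : Scheme.{u}} {f : X ⟶ Y} (e : X' ≅ X) (h : HasFact (e.hom ≫ f)) :
    HasFact f := by
  obtain ⟨W, g, j, h1, h2, h3, h4, h5⟩ := h
  exact ⟨W, e.inv ≫ g, j, inferInstance, inferInstance, inferInstance, inferInstance, by
    rw [Category.assoc, h5, e.inv_hom_id_assoc]⟩

/-- The open image of the second projection `T ×_Y X ⟶ X` has a factorisation if `T` has. -/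
theorem HasFact.of_slice_open (f : X ⟶ Y) [LocallyOfFinitePresentation f]
    [Flat (pullback.fst f f)] {T : Scheme.{u}} (g : T ⟶ X) [Flat (pullback.snd (g ≫ f) f)]
    [LocallyOfFinitePresentation (pullback.snd (g ≫ f) f)] (h : HasFact (g ≫ f)) :
    ∃ V : X.Opens, (V : Set X) = Set.range (pullback.snd (g ≫ f) f) ∧ HasFact (V.ι ≫ f) := by
  let π : pullback (g ≫ f) f ⟶ X := pullback.snd _ _
  let V : X.Opens := ⟨Set.range π, π.isOpenMap.isOpen_range⟩
  have hgV : Set.range g ⊆ Set.range V.ι := by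
    rintro _ ⟨t, rfl⟩
    rw [Scheme.Opens.range_ι]
    obtain ⟨r, -, h2⟩ := Scheme.Pullback.exists_preimage_pullback (f := g ≫ f) (g := f) t (g t)
      (by rw [Scheme.Hom.comp_apply])
    exact ⟨r, h2⟩
  let g' : T ⟶ V := IsOpenImmersion.lift V.ι g hgV
  have hg' : g' ≫ V.ι = g := IsOpenImmersion.lift_fac _ _ _
  refine ⟨V, rfl, ?_⟩
  have h0 : Flat (pullback.fst (V.ι ≫ f) (V.ι ≫ f)) := flat_fst_of_isOpenImmersion f _ _
  -- the second projection `T ×_Y V ⟶ V`
  let m : pullback (g' ≫ V.ι ≫ f) (V.ι ≫ f) ⟶ pullback (g ≫ f) f :=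
    pullback.map _ _ _ _ (𝟙 T) V.ι (𝟙 Y) (by
      rw [Category.comp_id, Category.id_comp, ← hg', Category.assoc]) (by rw [Category.comp_id])
  have hm : pullback.snd (g' ≫ V.ι ≫ f) (V.ι ≫ f) ≫ V.ι = m ≫ π :=
    (pullback.lift_snd _ _ _).symm
  have h1 : Flat (pullback.snd (g' ≫ V.ι ≫ f) (V.ι ≫ f)) := by
    have : Flat (pullback.snd (g' ≫ V.ι ≫ f) (V.ι ≫ f) ≫ V.ι) := by
      rw [hm]
      infer_instance
    exact MorphismProperty.of_postcomp (W := @Flat) (W' := @IsOpenImmersion) _ V.ι inferInstance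
      this
  have h2 : LocallyOfFinitePresentation (pullback.snd (g' ≫ V.ι ≫ f) (V.ι ≫ f)) := by
    have : LocallyOfFinitePresentation (pullback.snd (g' ≫ V.ι ≫ f) (V.ι ≫ f) ≫ V.ι) := by
      rw [hm]
      infer_instance
    exact MorphismProperty.of_postcomp (W := @LocallyOfFinitePresentation)
      (W' := @IsOpenImmersion) _ V.ι inferInstance this
  have h3 : Surjective (pullback.snd (g' ≫ V.ι ≫ f) (V.ι ≫ f)) := by
    refine ⟨fun x => ?_⟩
    obtain ⟨r, hr⟩ := x.2
    obtain ⟨r', -, h2⟩ := Scheme.Pullback.exists_preimage_pullback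
      (f := g' ≫ V.ι ≫ f) (g := V.ι ≫ f) (pullback.fst (g ≫ f) f r) x
      (by
        have e : g' ≫ V.ι ≫ f = g ≫ f := by rw [← Category.assoc, hg']
        rw [e, ← Scheme.Hom.comp_apply, pullback.condition, Scheme.Hom.comp_apply,
          Scheme.Hom.comp_apply]
        exact congrArg f hr)
    exact ⟨r', h2⟩
  exact HasFact.of_slice (V.ι ≫ f) g' (by rwa [← Category.assoc, hg'])

/-- `HasFact` is local on the source, in terms of open immersions. -/
theorem HasFact.of_cover' (f : X ⟶ Y) [LocallyOfFinitePresentation f] [Flat (pullback.fst f f)]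
    (H : ∀ x : X, ∃ (U : Scheme.{u}) (j : U ⟶ X) (_ : IsOpenImmersion j), x ∈ Set.range j ∧
      HasFact (j ≫ f)) : HasFact f := by
  refine HasFact.of_cover f fun x => ?_
  obtain ⟨U, j, hj, hx, hU⟩ := H x
  refine ⟨j.opensRange, hx, HasFact.of_iso j.isoOpensRange ?_⟩
  rwa [← Category.assoc, Scheme.Hom.isoOpensRange_hom_ι]

/-- `HasFact f` follows from the existence, near every point of the source, of good
quasi-sections. -/
theorem HasFact.of_slices (f : X ⟶ Y) [LocallyOfFinitePresentation f] [Flat (pullback.fst f f)]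
    (H : ∀ x : X, ∃ (U : Scheme.{u}) (j : U ⟶ X) (_ : IsOpenImmersion j) (u : U)
      (T : Scheme.{u}) (g : T ⟶ U) (t : T), j u = x ∧
      Flat (pullback.snd (g ≫ j ≫ f) (j ≫ f)) ∧
      LocallyOfFinitePresentation (g ≫ j ≫ f) ∧
      (g ≫ j ≫ f) t = (j ≫ f) u ∧ HasFact (g ≫ j ≫ f)) : HasFact f := by
  refine HasFact.of_cover' f fun x => ?_
  obtain ⟨U, j, hj, u, T, g, t, hx, hfl, hlfp, ht, hfact⟩ := H x
  have hsl : LocallyOfFinitePresentation (pullback.snd (g ≫ j ≫ f) (j ≫ f)) := inferInstance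
  have h0 : Flat (pullback.fst (j ≫ f) (j ≫ f)) := flat_fst_of_isOpenImmersion f _ _
  obtain ⟨V, hV, hVf⟩ := HasFact.of_slice_open (j ≫ f) g hfact
  refine ⟨V, V.ι ≫ j, inferInstance, ?_, ?_⟩
  · obtain ⟨r, -, h2⟩ := Scheme.Pullback.exists_preimage_pullback t u ht
    have hu : u ∈ V := by
      change u ∈ (V : Set U)
      rw [hV]
      exact ⟨r, h2⟩
    exact ⟨⟨u, hu⟩, by rw [Scheme.Hom.comp_apply]; exact hx⟩
  · rwa [Category.assoc]

end Groth.Agent.GrpQ.H773.HasFact
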