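import Groth.Agent.GrpQ.H773.HasFact
import Mathlib.RingTheory.QuasiFinite.Basic

/-!
# Assembly of the factorisation theorem from its affine quasi-finite case and slicing

`P1`: the affine quasi-finite case; `P2`: existence of quasi-finite slices; `hasFact_of_flat`:
for `f` locally of finite presentation with flat first projection `X ×_Y X ⟶ X`, the morphism `f`
is an fppf cover followed by a monomorphism.
-/

set_option autoImplicit false

universe u

open CategoryTheory Limits AlgebraicGeometry TensorProduct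

namespace Groth.Agent.GrpQ.H773.Assemble

open Groth.Agent.GrpQ.H773.HasFact

/-- The affine quasi-finite case of the factorisation theorem. -/
def P1 : Prop :=
  ∀ (A B : Type u) [CommRing A] [CommRing B] [Algebra A B] [Algebra.FinitePresentation A B]
    [Algebra.QuasiFinite A B], Module.Flat B (B ⊗[A] B) →
    HasFact (Spec.map (CommRingCat.ofHom (algebraMap A B)))

/-- Existence of quasi-finite slices. -/
def P2 : Prop :=
  ∀ (A B : Type u) [CommRing A] [CommRing B] [Algebra A B] [Algebra.FinitePresentation A B],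
    Module.Flat B (B ⊗[A] B) → ∀ q : PrimeSpectrum B,
    ∃ (D : Type u) (_ : CommRing D) (_ : Algebra A D) (g : B →ₐ[A] D),
      Algebra.FinitePresentation A D ∧ Algebra.QuasiFinite A D ∧
      (Algebra.TensorProduct.includeRight : B →ₐ[A] D ⊗[A] B).toRingHom.Flat ∧
      ∃ r : PrimeSpectrum D, r.comap (algebraMap A D) = q.comap (algebraMap A B)

/-- Post-composing both morphisms with a monomorphism does not change the flatness of the first
projection. -/
theorem flat_fst_comp_mono_iff {X Y S S' : Scheme.{u}} (f : X ⟶ S) (g : Y ⟶ S) (k : S ⟶ S')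
    [Mono k] : Flat (pullback.fst (f ≫ k) (g ≫ k)) ↔ Flat (pullback.fst f g) := by
  have h : IsPullback (pullback.fst (f ≫ k) (g ≫ k)) (pullback.snd (f ≫ k) (g ≫ k)) f g := by
    refine ⟨⟨?_⟩, ⟨PullbackCone.IsLimit.mk _
      (fun c => pullback.lift c.fst c.snd (by rw [c.condition_assoc]))
      (fun c => pullback.lift_fst _ _ _) (fun c => pullback.lift_snd _ _ _)
      (fun c m h1 h2 => pullback.hom_ext (h1.trans (pullback.lift_fst _ _ _).symm)
        (h2.trans (pullback.lift_snd _ _ _).symm))⟩⟩
    rw [← cancel_mono k, Category.assoc, Category.assoc]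
    exact pullback.condition
  have e : pullback.fst (f ≫ k) (g ≫ k) = h.isoPullback.hom ≫ pullback.fst f g :=
    h.isoPullback_hom_fst.symm
  rw [e, MorphismProperty.cancel_left_of_respectsIso (P := @Flat)]

theorem flat_snd_comp_mono_iff {X Y S S' : Scheme.{u}} (f : X ⟶ S) (g : Y ⟶ S) (k : S ⟶ S')
    [Mono k] : Flat (pullback.snd (f ≫ k) (g ≫ k)) ↔ Flat (pullback.snd f g) := by
  rw [← pullbackSymmetry_hom_comp_fst, ← pullbackSymmetry_hom_comp_fst f g,
    MorphismProperty.cancel_left_of_respectsIso (P := @Flat),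
    MorphismProperty.cancel_left_of_respectsIso (P := @Flat), flat_fst_comp_mono_iff]

theorem flat_fst_spec_iff (A B C : Type u) [CommRing A] [CommRing B] [CommRing C] [Algebra A B]
    [Algebra A C] :
    Flat (pullback.fst (Spec.map (CommRingCat.ofHom (algebraMap A B)))
      (Spec.map (CommRingCat.ofHom (algebraMap A C)))) ↔ Module.Flat B (B ⊗[A] C) := by
  rw [← pullbackSpecIso_hom_fst', MorphismProperty.cancel_left_of_respectsIso (P := @Flat),
    HasRingHomProperty.Spec_iff (P := @Flat)]
  exact RingHom.flat_algebraMap_iff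

theorem flat_snd_spec_iff (A B C : Type u) [CommRing A] [CommRing B] [CommRing C] [Algebra A B]
    [Algebra A C] :
    Flat (pullback.snd (Spec.map (CommRingCat.ofHom (algebraMap A B)))
      (Spec.map (CommRingCat.ofHom (algebraMap A C)))) ↔
      (Algebra.TensorProduct.includeRight : C →ₐ[A] B ⊗[A] C).toRingHom.Flat := by
  rw [← pullbackSpecIso_hom_snd, MorphismProperty.cancel_left_of_respectsIso (P := @Flat),
    HasRingHomProperty.Spec_iff (P := @Flat)]
  rfl

theorem flat_snd_comp {X Y Z S : Scheme.{u}} (a : X ⟶ S) (f : Y ⟶ S) (g : Z ⟶ Y)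
    [Flat (pullback.snd a f)] : Flat (pullback.snd a (g ≫ f)) := by
  have h : IsPullback (pullback.fst (pullback.snd a f) g ≫ pullback.fst a f)
      (pullback.snd (pullback.snd a f) g) a (g ≫ f) :=
    (IsPullback.paste_vert (IsPullback.of_hasPullback (pullback.snd a f) g).flip
      (IsPullback.of_hasPullback a f).flip).flip
  have e : pullback.snd a (g ≫ f) = h.isoPullback.inv ≫ pullback.snd (pullback.snd a f) g :=
    h.isoPullback_inv_snd.symm
  rw [e]
  infer_instance

theorem flat_fst_of_flat_snd {X S : Scheme.{u}} (f : X ⟶ S) [Flat (pullback.snd f f)] :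
    Flat (pullback.fst f f) := by
  rw [← pullbackSymmetry_hom_comp_snd]
  infer_instance

/-- **The factorisation theorem**, from the affine quasi-finite case and slicing. -/
theorem hasFact_of_flat (h1 : P1.{u}) (h2 : P2.{u}) {X Y : Scheme.{u}} (f : X ⟶ Y)
    [LocallyOfFinitePresentation f] [Flat (pullback.fst f f)] : HasFact f := by
  refine HasFact.of_slices f fun x => ?_
  obtain ⟨W, hW, hxW, -⟩ := exists_isAffineOpen_mem_and_subset (U := (⊤ : Y.Opens))
    (x := f x) trivial
  obtain ⟨U, hU, hxU, hUW⟩ := exists_isAffineOpen_mem_and_subset (U := f ⁻¹ᵁ W) (x := x) hxW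
  let φ := f.appLE W U hUW
  algebraize [φ.hom]
  have hfp : φ.hom.FinitePresentation := f.finitePresentation_appLE hW hU hUW
  have : Algebra.FinitePresentation Γ(Y, W) Γ(X, U) := hfp
  have hφ : Spec.map φ ≫ hW.fromSpec = hU.fromSpec ≫ f :=
    hW.SpecMap_appLE_fromSpec f hU hUW
  have hfl : Module.Flat Γ(X, U) (Γ(X, U) ⊗[Γ(Y, W)] Γ(X, U)) := by
    have h0 : Flat (pullback.fst (hU.fromSpec ≫ f) (hU.fromSpec ≫ f)) :=
      flat_fst_of_isOpenImmersion f _ _
    rw [← hφ, flat_fst_comp_mono_iff] at h0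
    exact (flat_fst_spec_iff _ _ _).1 h0
  have hxr : x ∈ Set.range hU.fromSpec := by
    rw [hU.range_fromSpec]
    exact hxU
  obtain ⟨q, hq⟩ := hxr
  obtain ⟨D, _, _, g, hD1, hD2, hD3, r, hr⟩ := h2 Γ(Y, W) Γ(X, U) hfl q
  have hgφ : Spec.map (CommRingCat.ofHom g.toRingHom) ≫ Spec.map φ =
      Spec.map (CommRingCat.ofHom (algebraMap Γ(Y, W) D)) := by
    rw [← Spec.map_comp]
    congr 1
    ext a
    exact g.commutes a
  have hgf : Spec.map (CommRingCat.ofHom g.toRingHom) ≫ hU.fromSpec ≫ f =
      Spec.map (CommRingCat.ofHom (algebraMap Γ(Y, W) D)) ≫ hW.fromSpec := by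
    rw [← hφ, reassoc_of% hgφ]
  refine ⟨Spec Γ(X, U), hU.fromSpec, inferInstance, q, Spec (.of D),
    Spec.map (CommRingCat.ofHom g.toRingHom), r, hq, ?_, ?_, ?_, ?_⟩
  · rw [hgf, ← hφ, flat_snd_comp_mono_iff]
    exact (flat_snd_spec_iff _ _ _).2 hD3
  · rw [hgf]
    have : LocallyOfFinitePresentation (Spec.map (CommRingCat.ofHom (algebraMap Γ(Y, W) D))) := by
      rw [HasRingHomProperty.Spec_iff (P := @LocallyOfFinitePresentation)]
      exact (RingHom.finitePresentation_algebraMap).2 hD1
    infer_instance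
  · rw [hgf, ← hφ, Scheme.Hom.comp_apply, Scheme.Hom.comp_apply]
    exact congrArg _ hr
  · rw [hgf]
    refine HasFact.comp_mono (h1 _ _ ?_) _
    -- flatness of `D ⊗ D` over `D`
    rw [← flat_fst_spec_iff]
    have h3 := (flat_snd_spec_iff Γ(Y, W) D Γ(X, U)).2 hD3
    have h4 := flat_snd_comp (Spec.map (CommRingCat.ofHom (algebraMap Γ(Y, W) D)))
      (Spec.map (CommRingCat.ofHom (algebraMap Γ(Y, W) Γ(X, U))))
      (Spec.map (CommRingCat.ofHom g.toRingHom))
    rw [show Spec.map (CommRingCat.ofHom g.toRingHom) ≫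
      Spec.map (CommRingCat.ofHom (algebraMap Γ(Y, W) Γ(X, U))) =
      Spec.map (CommRingCat.ofHom (algebraMap Γ(Y, W) D)) from hgφ] at h4
    exact flat_fst_of_flat_snd _

end Groth.Agent.GrpQ.H773.Assemble
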