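import Groth.Agent.GrpQ.H773.Assemble
import Groth.Agent.GrpQ.H776.QFAffine
import Groth.Agent.GrpQ.H792.SliceMain

/-!
# The factorisation theorem

A morphism `f : X ⟶ Y` locally of finite presentation such that the first projection
`X ×_Y X ⟶ X` is flat is an fppf cover followed by a monomorphism.
-/

set_option autoImplicit false

universe u

open CategoryTheory Limits AlgebraicGeometry TensorProduct

namespace Groth.Agent.GrpQ.H773.Main

open Groth.Agent.GrpQ.H773.HasFact Groth.Agent.GrpQ.H773.Assemble

theorem p1 : P1.{u} := by
  intro A B _ _ _ _ _ h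
  exact Groth.Agent.GrpQ.H776.QFAffine.hasFact_of_quasiFinite h

/-- **The factorisation theorem.** -/
theorem hasFact {X Y : Scheme.{u}} (f : X ⟶ Y) [LocallyOfFinitePresentation f]
    [Flat (pullback.fst f f)] : HasFact f :=
  hasFact_of_flat p1 Groth.Agent.GrpQ.H792.SliceMain.exists_slice f

end Groth.Agent.GrpQ.H773.Main
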