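import Groth.Agent.GrpQ.H773.HasFact
import Groth.Agent.Ega43.FPOfComp
import Groth.Agent.S0114
import Groth.Prelude.Def_AlgGrp
import Mathlib.CategoryTheory.Monoidal.Cartesian.Over
import Mathlib.CategoryTheory.Monoidal.Grp

/-!
# Quotients by flat stabilizers from the factorisation theorem
-/

set_option autoImplicit false

universe u

open CategoryTheory MonoidalCategory CartesianMonoidalCategory MonObj GrpObj AlgebraicGeometry
  CategoryTheory.Limits

namespace Groth.Agent.GrpQ.H773.Orbit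

open Groth.Agent.GrpQ.H773.HasFact

variable {S : Scheme.{u}} {G X : Over S} [GrpObj G] (a : AlgGrp.Action G X)

theorem lift_one_act {T : Over S} (x : T ⟶ X) : lift (1 : T ⟶ G) x ≫ a.act = x := by
  have h : lift (1 : T ⟶ G) x = lift (toUnit T) x ≫ (η[G] ▷ X) := by
    rw [lift_whiskerRight]
    rfl
  rw [h, Category.assoc, a.one_act, lift_leftUnitor_hom]

theorem lift_mul_act {T : Over S} (g h : T ⟶ G) (x : T ⟶ X) :
    lift (g * h) x ≫ a.act = lift g (lift h x ≫ a.act) ≫ a.act := by
  have h1 : lift (g * h) x = lift (lift g h) x ≫ (μ[G] ▷ X) := by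
    rw [lift_whiskerRight]
    rfl
  rw [h1, Category.assoc, a.mul_act, lift_lift_associator_hom_assoc, lift_whiskerLeft_assoc]

/-- The orbit map on points. -/
theorem comp_orbitMap (ξ : 𝟙_ (Over S) ⟶ X) {T : Over S} (g : T ⟶ G) :
    g ≫ a.orbitMap ξ = lift g (toUnit T ≫ ξ) ≫ a.act := by
  rw [AlgGrp.Action.orbitMap, comp_lift_assoc, Category.comp_id, ← Category.assoc, comp_toUnit]

/-- Two points have the same orbit image iff they differ by a point of the stabilizer. -/
theorem isPullback_orbitMap (ξ : 𝟙_ (Over S) ⟶ X) :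
    IsPullback ((G ◁ pullback.fst (a.orbitMap ξ) ξ) ≫ μ[G]) (fst G (pullback (a.orbitMap ξ) ξ))
      (a.orbitMap ξ) (a.orbitMap ξ) := by
  have hstab : ∀ {T : Over S} (h : T ⟶ pullback (a.orbitMap ξ) ξ),
      (h ≫ pullback.fst (a.orbitMap ξ) ξ) ≫ a.orbitMap ξ = toUnit T ≫ ξ := by
    intro T h
    rw [Category.assoc, pullback.condition, ← Category.assoc]
    congr 1
    exact toUnit_unique _ _
  have hmul : ∀ {T : Over S} (z : T ⟶ G ⊗ pullback (a.orbitMap ξ) ξ),
      z ≫ (G ◁ pullback.fst (a.orbitMap ξ) ξ) ≫ μ[G] =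
        (z ≫ fst _ _) * (z ≫ snd _ _ ≫ pullback.fst (a.orbitMap ξ) ξ) := by
    intro T z
    have hz : z = lift (z ≫ fst _ _) (z ≫ snd _ _) := by
      apply CartesianMonoidalCategory.hom_ext <;> simp
    conv_lhs => rw [hz]
    rw [lift_whiskerLeft_assoc, Category.assoc]
    rfl
  have hw : ∀ {T : Over S} (z : T ⟶ G ⊗ pullback (a.orbitMap ξ) ξ),
      (z ≫ (G ◁ pullback.fst (a.orbitMap ξ) ξ) ≫ μ[G]) ≫ a.orbitMap ξ =
        (z ≫ fst _ _) ≫ a.orbitMap ξ := by
    intro T z
    have h1 := hstab (z ≫ snd _ _)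
    rw [comp_orbitMap] at h1
    rw [hmul, comp_orbitMap, comp_orbitMap, lift_mul_act]
    rw [Category.assoc] at h1
    rw [h1]
  refine ⟨⟨?_⟩, ⟨PullbackCone.IsLimit.mk _
    (fun c => lift c.snd (pullback.lift (c.snd⁻¹ * c.fst) (toUnit _) ?_)) ?_ ?_ ?_⟩⟩
  · have := hw (𝟙 _)
    simpa only [Category.id_comp] using this
  · rw [comp_orbitMap, lift_mul_act, ← comp_orbitMap, c.condition, comp_orbitMap, ← lift_mul_act,
      inv_mul_cancel, lift_one_act]
  · intro c
    rw [hmul, lift_fst, lift_snd_assoc, pullback.lift_fst, mul_inv_cancel_left]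
  · intro c
    rw [lift_fst]
  · intro c m h1 h2
    apply CartesianMonoidalCategory.hom_ext
    · rw [lift_fst, h2]
    · rw [lift_snd]
      apply pullback.hom_ext
      · rw [pullback.lift_fst, Category.assoc]
        rw [hmul] at h1
        rw [← h1, ← h2, inv_mul_cancel_left]
      · exact toUnit_unique _ _

theorem isPullback_of_comp_mono {C : Type*} [Category C] {P A B D E : C} {p : P ⟶ A} {q : P ⟶ B}
    {f : A ⟶ D} {g : B ⟶ D} {i : D ⟶ E} [Mono i] (h : IsPullback p q (f ≫ i) (g ≫ i)) :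
    IsPullback p q f g := by
  refine ⟨⟨?_⟩, ⟨PullbackCone.IsLimit.mk _
    (fun c => h.lift c.fst c.snd (by rw [c.condition_assoc]))
    (fun c => h.lift_fst _ _ _) (fun c => h.lift_snd _ _ _)
    (fun c m h1 h2 => h.hom_ext (h1.trans (h.lift_fst _ _ _).symm)
      (h2.trans (h.lift_snd _ _ _).symm))⟩⟩
  rw [← cancel_mono i, Category.assoc, Category.assoc]
  exact h.w

theorem isPullback_of_comp_mono' {C : Type*} [Category C] {P A D E : C} {p : P ⟶ A} {q : P ⟶ A}
    {f : A ⟶ D} {i : D ⟶ E} {k : A ⟶ E} [Mono i] (h : IsPullback p q k k) (hk : f ≫ i = k) :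
    IsPullback p q f f := by
  subst hk
  exact isPullback_of_comp_mono h

/-- **Quotients by flat stabilizers**, from the factorisation theorem. -/
theorem exists_quotient (hF : ∀ {X Y : Scheme.{u}} (f : X ⟶ Y) [LocallyOfFinitePresentation f]
      [Flat (pullback.fst f f)], HasFact f)
    [LocallyOfFinitePresentation G.hom] [LocallyOfFiniteType X.hom]
    (ξ : 𝟙_ (Over S) ⟶ X) (hH : Flat (pullback (a.orbitMap ξ) ξ).hom) :
    ∃ (Q : Over S) (p : G ⟶ Q) (i : Q ⟶ X), p ≫ i = a.orbitMap ξ ∧
      Surjective p.left ∧ Flat p.left ∧ LocallyOfFinitePresentation p.left ∧ Mono i ∧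
      LocallyOfFinitePresentation Q.hom ∧
      IsPullback ((G ◁ pullback.fst (a.orbitMap ξ) ξ) ≫ μ[G])
        (fst G (pullback (a.orbitMap ξ) ξ)) p p := by
  have hpb := isPullback_orbitMap a ξ
  -- the orbit map is locally of finite presentation
  have hlfp : LocallyOfFinitePresentation (a.orbitMap ξ).left := by
    have : LocallyOfFinitePresentation ((a.orbitMap ξ).left ≫ X.hom) := by
      rw [Over.w]; infer_instance
    exact Ega43.FPOfComp.locallyOfFinitePresentation_of_comp (a.orbitMap ξ).left X.hom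
  -- the second projection of its kernel pair is flat
  have hpb' : IsPullback ((G ◁ pullback.fst (a.orbitMap ξ) ξ) ≫ μ[G]).left
      (fst G (pullback (a.orbitMap ξ) ξ)).left (a.orbitMap ξ).left (a.orbitMap ξ).left :=
    hpb.map (Over.forget S)
  have hfst : Flat (fst G (pullback (a.orbitMap ξ) ξ)).left := by
    have : (fst G (pullback (a.orbitMap ξ) ξ)).left =
        pullback.fst G.hom (pullback (a.orbitMap ξ) ξ).hom := rfl
    rw [this]
    infer_instance
  have hfl : Flat (pullback.snd (a.orbitMap ξ).left (a.orbitMap ξ).left) := by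
    rw [← hpb'.isoPullback_inv_snd]
    infer_instance
  have hfl' : Flat (pullback.fst (a.orbitMap ξ).left (a.orbitMap ξ).left) := by
    rw [← pullbackSymmetry_hom_comp_snd]
    infer_instance
  obtain ⟨Z, g, h, h1, h2, h3, h4, h5⟩ := hF (a.orbitMap ξ).left
  let Q : Over S := Over.mk (h ≫ X.hom)
  let p : G ⟶ Q := Over.homMk g (by
    change g ≫ h ≫ X.hom = G.hom
    rw [← Category.assoc, h5, Over.w])
  let i : Q ⟶ X := Over.homMk h rfl
  have hpi : p ≫ i = a.orbitMap ξ := by
    ext1
    exact h5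
  have hi : Mono i := by
    have : Mono i.left := h4
    exact Over.mono_of_mono_left i
  refine ⟨Q, p, i, hpi, h1, h2, h3, hi, ?_, ?_⟩
  · have : LocallyOfFinitePresentation (g ≫ h ≫ X.hom) := by
      rw [← Category.assoc, h5, Over.w]; infer_instance
    exact Groth.Agent.S0114.result g (h ≫ X.hom)
  · exact isPullback_of_comp_mono' hpb hpi

end Groth.Agent.GrpQ.H773.Orbit
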